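import Mathlib

/-!
# Termwise split factorisations of morphisms of cochain complexes
-/

open CategoryTheory CategoryTheory.Limits HomologicalComplex
universe v u

namespace TermSplit

variable {V : Type u} [Category.{v} V] [Preadditive V] [HasBinaryBiproducts V]

open CochainComplex in
/-- The cone of an identity is contractible. -/
noncomputable def coneIdHomotopy (K : CochainComplex V ℤ) : Homotopy (𝟙 (mappingCone (𝟙 K))) 0 :=
  mappingCone.liftHomotopy _ _ _ (mappingCone.snd _) 0 (by simp) (by simp)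

variable {K L : CochainComplex V ℤ} (α : K ⟶ L)

/-- Cylinder type object. -/
noncomputable abbrev mid (_α : K ⟶ L) : CochainComplex V ℤ := CochainComplex.mappingCone (𝟙 K) ⊞ L

/-- Inclusion. -/
noncomputable def incl : K ⟶ mid α := biprod.lift (CochainComplex.mappingCone.inr (𝟙 K)) α

lemma incl_snd : incl α ≫ biprod.snd = α := biprod.lift_snd _ _

/-- The projection is a homotopy equivalence. -/
noncomputable def projEquiv : HomotopyEquiv (mid α) L where
  hom := biprod.snd
  inv := biprod.inr
  homotopyHomInvId :=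
    let h₁ := ((coneIdHomotopy K).compRight (biprod.inl : _ ⟶ mid α)).compLeft (biprod.fst : mid α ⟶ _)
    let h₂ := Homotopy.add h₁ (Homotopy.refl (biprod.snd ≫ biprod.inr))
    (Homotopy.ofEq (by simp)).trans (h₂.symm.trans (Homotopy.ofEq (by simp)))
  homotopyInvHomId := Homotopy.ofEq (by simp)

/-- The splitting in a degree. -/
noncomputable def splitIso (n : ℤ) : (mid α).X n ≅ K.X n ⊞ (L.X n ⊞ K.X (n + 1)) where
  hom := biprod.lift ((biprod.fst : mid α ⟶ _).f n ≫ (CochainComplex.mappingCone.snd (𝟙 K)).v n n (add_zero n))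
    (biprod.lift ((biprod.snd : mid α ⟶ _).f n -
        (biprod.fst : mid α ⟶ _).f n ≫ (CochainComplex.mappingCone.snd (𝟙 K)).v n n (add_zero n) ≫ α.f n)
      ((biprod.fst : mid α ⟶ _).f n ≫ (CochainComplex.mappingCone.fst (𝟙 K)).1.v n (n + 1) rfl))
  inv := biprod.desc ((incl α).f n) (biprod.desc ((biprod.inr : L ⟶ mid α).f n)
    ((CochainComplex.mappingCone.inl (𝟙 K)).v (n + 1) n (by omega) ≫ (biprod.inl : _ ⟶ mid α).f n))
  hom_inv_id := by
    have h : ((biprod.fst : mid α ⟶ _).f n ≫ (biprod.inl : _ ⟶ mid α).f n) +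
        (biprod.snd : mid α ⟶ _).f n ≫ (biprod.inr : L ⟶ mid α).f n = 𝟙 _ := by
      rw [← comp_f, ← comp_f, ← add_f_apply, biprod.total, id_f]
    have h' := CochainComplex.mappingCone.id_X (𝟙 K) n (n + 1) rfl
    have hi : incl α = CochainComplex.mappingCone.inr (𝟙 K) ≫ biprod.inl + α ≫ biprod.inr :=
      biprod.hom_ext _ _ (by simp [incl]) (by simp [incl])
    rw [biprod.lift_desc, biprod.lift_desc, hi, add_f_apply, comp_f, comp_f]
    simp only [Preadditive.comp_add, Preadditive.sub_comp, Category.assoc]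
    rw [← h]
    conv_rhs => arg 1; rw [← Category.id_comp ((biprod.inl : _ ⟶ mid α).f n), ← h']
    simp only [Preadditive.comp_add, Preadditive.add_comp, Category.assoc]
    abel
  inv_hom_id := by
    apply biprod.hom_ext'
    · apply biprod.hom_ext
      · simp [incl, ← comp_f_assoc]
      · apply biprod.hom_ext <;> simp [incl, ← comp_f_assoc, ← comp_f]
    · apply biprod.hom_ext'
      · apply biprod.hom_ext
        · simp [← comp_f_assoc, ← comp_f]
        · apply biprod.hom_ext <;> simp [← comp_f_assoc, ← comp_f]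
      · apply biprod.hom_ext
        · simp [← comp_f_assoc, ← comp_f]
        · apply biprod.hom_ext <;> simp [← comp_f_assoc, ← comp_f]

lemma incl_split (n : ℤ) : (incl α).f n ≫ (splitIso α n).hom = biprod.inl := by
  have : biprod.inl ≫ (splitIso α n).inv = (incl α).f n := biprod.inl_desc _ _
  rw [← this, Category.assoc, Iso.inv_hom_id, Category.comp_id]

lemma isZero_mid (n : ℤ) (h1 : IsZero (K.X n)) (h2 : IsZero (K.X (n + 1))) (h3 : IsZero (L.X n)) :
    IsZero ((mid α).X n) := by
  refine IsZero.of_iso ?_ (splitIso α n)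
  rw [IsZero.iff_id_eq_zero]
  apply biprod.hom_ext'
  · exact h1.eq_of_src _ _
  · apply biprod.hom_ext'
    · exact h3.eq_of_src _ _
    · exact h2.eq_of_src _ _

lemma mid_ge (a : ℤ) [K.IsStrictlyGE a] [L.IsStrictlyGE a] : (mid α).IsStrictlyGE (a - 1) := by
  rw [CochainComplex.isStrictlyGE_iff]
  intro i hi
  exact isZero_mid α i (K.isZero_of_isStrictlyGE a i (by omega)) (K.isZero_of_isStrictlyGE a _ (by omega))
    (L.isZero_of_isStrictlyGE a i (by omega))

lemma mid_le (a : ℤ) [K.IsStrictlyLE a] [L.IsStrictlyLE a] : (mid α).IsStrictlyLE a := by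
  rw [CochainComplex.isStrictlyLE_iff]
  intro i hi
  exact isZero_mid α i (K.isZero_of_isStrictlyLE a i hi) (K.isZero_of_isStrictlyLE a _ (by omega))
    (L.isZero_of_isStrictlyLE a i hi)


section Surj

open CochainComplex CochainComplex.HomComplex

variable [HasZeroObject V]

/-- The shifted complex. -/
noncomputable abbrev sh (L : CochainComplex V ℤ) : CochainComplex V ℤ := L⟦(-1 : ℤ)⟧

/-- The tautological cocycle. -/
noncomputable def taut (L : CochainComplex V ℤ) : Cocycle (sh L) L (-1) :=
  (Cocycle.ofHom (𝟙 L)).leftShift (-1) (-1) (by omega)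

lemma taut_v (L : CochainComplex V ℤ) (n : ℤ) :
    (taut L).1.v (n + 1) n (by omega) = (L.shiftFunctorObjXIso (-1) (n + 1) n (by omega)).hom := by
  change ((Cochain.ofHom (𝟙 L)).leftShift (-1) (-1) (zero_add _)).v (n + 1) n _ = _
  rw [Cochain.leftShift_v _ (-1) (-1) (zero_add _) (n + 1) n (by omega) n (by omega)]
  have h2 : ((-1 : ℤ) * -1 + -1 * (-1 - 1) / 2) = 2 := by norm_num
  rw [h2, Cochain.ofHom_v, id_f, Int.negOnePow_even 2 ⟨1, rfl⟩, one_smul, Category.comp_id]

/-- Map from the contractible complex onto the target. -/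
noncomputable def quo (L : CochainComplex V ℤ) : mappingCone (𝟙 (sh L)) ⟶ L :=
  mappingCone.desc _ (taut L).1 0 (by simp)

/-- Cocylinder type object. -/
noncomputable abbrev mid' (_α : K ⟶ L) : CochainComplex V ℤ := mappingCone (𝟙 (sh L)) ⊞ K

/-- Projection. -/
noncomputable def proj : mid' α ⟶ L := biprod.desc (quo L) α

/-- The inclusion is a homotopy equivalence. -/
noncomputable def inclEquiv : HomotopyEquiv (mid' α) K where
  hom := biprod.snd
  inv := biprod.inr
  homotopyHomInvId :=
    let h₁ := ((coneIdHomotopy (sh L)).compRight (biprod.inl : _ ⟶ mid' α)).compLeft (biprod.fst : mid' α ⟶ _)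
    let h₂ := Homotopy.add h₁ (Homotopy.refl (biprod.snd ≫ biprod.inr))
    (Homotopy.ofEq (by simp)).trans (h₂.symm.trans (Homotopy.ofEq (by simp)))
  homotopyInvHomId := Homotopy.ofEq (by simp)

/-- Degreewise section of the projection. -/
noncomputable def sec (n : ℤ) : L.X n ⟶ (mid' α).X n :=
  (L.shiftFunctorObjXIso (-1) (n + 1) n (by omega)).inv ≫
    (mappingCone.inl (𝟙 (sh L))).v (n + 1) n (by omega) ≫ (biprod.inl : _ ⟶ mid' α).f n

lemma sec_proj (n : ℤ) : sec α n ≫ (proj α).f n = 𝟙 _ := by
  rw [sec, Category.assoc, Category.assoc, ← comp_f, proj, biprod.inl_desc, quo, mappingCone.inl_v_desc_f,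
    taut_v, Iso.inv_hom_id]

/-- The splitting of the projection in a degree. -/
noncomputable def splitIso' (n : ℤ) : (mid' α).X n ≅ ((sh L).X n ⊞ K.X n) ⊞ L.X n where
  hom := biprod.lift (biprod.lift ((biprod.fst : mid' α ⟶ _).f n ≫ (mappingCone.snd (𝟙 (sh L))).v n n (add_zero n))
    ((biprod.snd : mid' α ⟶ _).f n)) ((proj α).f n)
  inv := biprod.desc (biprod.desc ((mappingCone.inr (𝟙 (sh L))).f n ≫ (biprod.inl : _ ⟶ mid' α).f n)
    ((biprod.inr : K ⟶ mid' α).f n - α.f n ≫ sec α n)) (sec α n)
  hom_inv_id := by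
    have h : ((biprod.fst : mid' α ⟶ _).f n ≫ (biprod.inl : _ ⟶ mid' α).f n) +
        (biprod.snd : mid' α ⟶ _).f n ≫ (biprod.inr : K ⟶ mid' α).f n = 𝟙 _ := by
      rw [← comp_f, ← comp_f, ← add_f_apply, biprod.total, id_f]
    have h' := mappingCone.id_X (𝟙 (sh L)) n (n + 1) rfl
    have hp : proj α = biprod.fst ≫ quo L + biprod.snd ≫ α := biprod.desc_eq
    rw [biprod.lift_desc, biprod.lift_desc, hp, add_f_apply, comp_f, comp_f, quo,
      mappingCone.desc_f _ _ _ _ n (n + 1) rfl]
    simp only [Preadditive.comp_sub, Preadditive.add_comp, Category.assoc, zero_f, comp_zero, add_zero, sec,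
      taut_v, Iso.hom_inv_id_assoc]
    rw [← h]
    conv_rhs => arg 1; rw [← Category.id_comp ((biprod.inl : _ ⟶ mid' α).f n), ← h']
    simp only [Preadditive.comp_add, Preadditive.add_comp, Category.assoc]
    abel
  inv_hom_id := by
    apply biprod.hom_ext'
    · apply biprod.hom_ext'
      · apply biprod.hom_ext
        · apply biprod.hom_ext <;> simp [-CochainComplex.shiftFunctor_obj_X', -CochainComplex.shiftFunctorObjXIso, -CochainComplex.shiftFunctor_obj_X, ← comp_f_assoc, ← comp_f]
        · simp [-CochainComplex.shiftFunctor_obj_X', -CochainComplex.shiftFunctorObjXIso, -CochainComplex.shiftFunctor_obj_X, proj, quo, ← comp_f]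
      · apply biprod.hom_ext
        · apply biprod.hom_ext <;> simp [-CochainComplex.shiftFunctor_obj_X', -CochainComplex.shiftFunctorObjXIso, -CochainComplex.shiftFunctor_obj_X, sec, ← comp_f_assoc, ← comp_f]
        · simp [-CochainComplex.shiftFunctor_obj_X', -CochainComplex.shiftFunctorObjXIso, -CochainComplex.shiftFunctor_obj_X, sec_proj]
          simp [-CochainComplex.shiftFunctor_obj_X', -CochainComplex.shiftFunctorObjXIso, -CochainComplex.shiftFunctor_obj_X, proj, ← comp_f]
    · apply biprod.hom_ext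
      · apply biprod.hom_ext <;> simp [-CochainComplex.shiftFunctor_obj_X', -CochainComplex.shiftFunctorObjXIso, -CochainComplex.shiftFunctor_obj_X, sec, ← comp_f_assoc, ← comp_f]
      · simp [-CochainComplex.shiftFunctor_obj_X', -CochainComplex.shiftFunctorObjXIso, -CochainComplex.shiftFunctor_obj_X, sec_proj]

lemma splitIso'_proj (n : ℤ) : (splitIso' α n).inv ≫ (proj α).f n = biprod.snd := by
  have : (splitIso' α n).hom ≫ biprod.snd = (proj α).f n := biprod.lift_snd _ _
  rw [← this, Iso.inv_hom_id_assoc]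

lemma isZero_mid' (n : ℤ) (h1 : IsZero (L.X (n + -1))) (h2 : IsZero (K.X n)) (h3 : IsZero (L.X n)) :
    IsZero ((mid' α).X n) := by
  refine IsZero.of_iso ?_ (splitIso' α n)
  rw [IsZero.iff_id_eq_zero]
  apply biprod.hom_ext'
  · apply biprod.hom_ext'
    · exact h1.eq_of_src _ _
    · exact h2.eq_of_src _ _
  · exact h3.eq_of_src _ _

lemma mid'_ge (a : ℤ) [K.IsStrictlyGE a] [L.IsStrictlyGE a] : (mid' α).IsStrictlyGE a := by
  rw [CochainComplex.isStrictlyGE_iff]
  intro i hi
  exact isZero_mid' α i (L.isZero_of_isStrictlyGE a _ (by omega)) (K.isZero_of_isStrictlyGE a i hi)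
    (L.isZero_of_isStrictlyGE a i hi)

lemma mid'_le (a : ℤ) [K.IsStrictlyLE a] [L.IsStrictlyLE a] : (mid' α).IsStrictlyLE (a + 1) := by
  rw [CochainComplex.isStrictlyLE_iff]
  intro i hi
  exact isZero_mid' α i (L.isZero_of_isStrictlyLE a _ (by omega)) (K.isZero_of_isStrictlyLE a i (by omega))
    (L.isZero_of_isStrictlyLE a i (by omega))

end Surj

end TermSplit
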